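import Cfsg.Agent.H195.Rg.Sec

/-!
# S3691 (R3'): the section `w^⊥ / ⟨w⟩`, `polar Q w w = 0` (helper195, for helper826)

`w` singular (any characteristic) or nonsingular (characteristic two); `H` stabilises the line `⟨w⟩`.
-/

set_option autoImplicit false
set_option linter.unusedSectionVars false
set_option linter.unusedVariables false

namespace Cfsg.Agent.H195.Rg.Two

open Module QuadraticMap Cfsg.Agent.LieClassical.OrthCore Cfsg.Agent.LieClassical.OrthTrans Cfsg.Agent.H955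

universe u v w

variable {F : Type u} [Field F] {V : Type v} [AddCommGroup V] [Module F V] [FiniteDimensional F V]
  {Q : QuadraticForm F V} {H : Subgroup (V ≃ₗ[F] V)}

theorem span_le_perp {w : V} (hww : polar Q w w = 0) :
    Submodule.span F {w} ≤ perp Q (Submodule.span F {w}) := by
  intro x hx y hy
  obtain ⟨a, rfl⟩ := Submodule.mem_span_singleton.1 hx
  obtain ⟨b, rfl⟩ := Submodule.mem_span_singleton.1 hy
  rw [polar_smul_left, polar_smul_right, hww, smul_zero, smul_zero]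

theorem polar_self_zero {w : V} (h : (2 : F) = 0 ∨ Q w = 0) : polar Q w w = 0 := by
  rw [polar_self']
  rcases h with h | h <;> rw [h]
  · rw [zero_mul]
  · rw [mul_zero]

/-- (a) -/
theorem exists_cpl (hQ : Nondeg Q) {w : V} (hw0 : w ≠ 0) (hww : polar Q w w = 0) :
    ∃ U : Submodule F V, U ⊔ Submodule.span F {w} = perp Q (Submodule.span F {w}) ∧
      U ⊓ Submodule.span F {w} = ⊥ ∧ Nondeg (res Q U) ∧ finrank F U + 2 = finrank F V := by
  obtain ⟨C, hC⟩ := Submodule.exists_isCompl (Submodule.span F {w})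
  have hle := span_le_perp hww
  have h1 : (C ⊓ perp Q (Submodule.span F {w})) ⊔ Submodule.span F {w} = perp Q (Submodule.span F {w}) := by
    rw [sup_comm, ← sup_inf_assoc_of_le _ hle, hC.sup_eq_top, top_inf_eq]
  have h0 : (C ⊓ perp Q (Submodule.span F {w})) ⊓ Submodule.span F {w} = ⊥ := by
    rw [eq_bot_iff, ← hC.inf_eq_bot]
    exact le_inf inf_le_right (inf_le_left.trans inf_le_left)
  refine ⟨_, h1, h0, nondeg_cpl hQ h1 h0, ?_⟩
  have h3 := Submodule.finrank_sup_add_finrank_inf_eq (C ⊓ perp Q (Submodule.span F {w})) (Submodule.span F {w})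
  rw [h1, h0, finrank_bot, add_zero, finrank_span_singleton hw0] at h3
  have h4 := finrank_add_perp hQ (Submodule.span F {w})
  rw [finrank_span_singleton hw0] at h4
  omega

/-- (b) the group induced by `H` on `w^⊥ / ⟨w⟩`, realised on a complement `U` of `⟨w⟩` in `w^⊥` -/
def ind (H : Subgroup (V ≃ₗ[F] V)) (U : Submodule F V) (w : V) (hHw : ∀ h ∈ H, ∃ c : F, h w = c • w) :
    Subgroup (U ≃ₗ[F] U) where
  carrier := {e | ∃ h ∈ H, ∀ u : U, ∃ c : F, h (u : V) = (e u : V) + c • w}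
  mul_mem' := by
    rintro e1 e2 ⟨h1, hh1, hc1⟩ ⟨h2, hh2, hc2⟩
    refine ⟨h1 * h2, H.mul_mem hh1 hh2, fun u => ?_⟩
    obtain ⟨c2, hc2⟩ := hc2 u
    obtain ⟨c1, hc1⟩ := hc1 (e2 u)
    obtain ⟨d, hd⟩ := hHw h1 hh1
    refine ⟨c1 + c2 * d, ?_⟩
    show h1 (h2 u) = (e1 (e2 u) : V) + (c1 + c2 * d) • w
    rw [hc2, map_add, map_smul, hd, hc1, add_smul, add_assoc, smul_smul]
  one_mem' := ⟨1, H.one_mem, fun u => ⟨0, by rw [zero_smul, add_zero]; rfl⟩⟩
  inv_mem' := by
    rintro e ⟨h, hh, hc⟩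
    refine ⟨h⁻¹, H.inv_mem hh, fun u => ?_⟩
    obtain ⟨c, hc⟩ := hc (e⁻¹ u)
    obtain ⟨d, hd⟩ := hHw h⁻¹ (H.inv_mem hh)
    refine ⟨-(c * d), ?_⟩
    have h1 : e (e⁻¹ u) = u := e.apply_symm_apply u
    rw [h1] at hc
    have h3 : h⁻¹ (h ((e⁻¹ u : U) : V)) = ((e⁻¹ u : U) : V) := h.symm_apply_apply _
    rw [hc, map_add, map_smul, hd, smul_smul] at h3
    rw [← h3, neg_smul, add_neg_cancel_right]

variable {w : V} {U : Submodule F V}

theorem ind_polar (hww : polar Q w w = 0) (hU : U ⊔ Submodule.span F {w} = perp Q (Submodule.span F {w}))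
    (hH : H ≤ O Q) {hHw : ∀ h ∈ H, ∃ c : F, h w = c • w} {e : U ≃ₗ[F] U} (he : e ∈ ind H U w hHw) (a b : U) :
    polar (res Q U) (e a) (e b) = polar (res Q U) a b := by
  obtain ⟨h, hh, hc⟩ := he
  obtain ⟨c, hc1⟩ := hc a
  obtain ⟨d, hd1⟩ := hc b
  have h3 := polar_map (hH hh) (a : V) (b : V)
  rw [hc1, hd1, polar_add_left, polar_add_right, polar_add_right, polar_smul_left, polar_smul_left,
    polar_smul_right, polar_smul_right, hww, polar_comm Q (e a : V) w, perp_U hU _ (e a).2,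
    perp_U hU _ (e b).2] at h3
  simp only [smul_zero, add_zero] at h3
  exact h3

theorem ind_O (hw : Q w = 0) (hU : U ⊔ Submodule.span F {w} = perp Q (Submodule.span F {w}))
    (hH : H ≤ O Q) {hHw : ∀ h ∈ H, ∃ c : F, h w = c • w} : ind H U w hHw ≤ O (res Q U) := by
  rintro e ⟨h, hh, hc⟩ a
  obtain ⟨c, hc1⟩ := hc a
  have h3 := mem_O.1 (hH hh) (a : V)
  rw [hc1, Cfsg.Agent.H588.Rg.Q_add_smul, hw, polar_comm Q (e a : V) w, perp_U hU _ (e a).2, mul_zero, mul_zero,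
    add_zero, add_zero] at h3
  exact h3

theorem exists_ind (hw0 : w ≠ 0) (hU : U ⊔ Submodule.span F {w} = perp Q (Submodule.span F {w}))
    (hU0 : U ⊓ Submodule.span F {w} = ⊥) {h : V ≃ₗ[F] V} (hO : h ∈ O Q) (hhw : ∃ c : F, h w = c • w) :
    ∃ e : U ≃ₗ[F] U, ∀ u : U, ∃ c : F, h (u : V) = (e u : V) + c • w := by
  obtain ⟨d, hd⟩ := hhw
  have hd0 : d ≠ 0 := by
    rintro rfl
    rw [zero_smul] at hd
    exact hw0 ((map_eq_zero_iff h h.injective).1 hd)
  have hvU : w ∉ U := by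
    intro h
    have h1 : w ∈ U ⊓ Submodule.span F {w} := ⟨h, Submodule.mem_span_singleton_self w⟩
    rw [hU0, Submodule.mem_bot] at h1
    exact hw0 h1
  have hUP := perp_U hU
  obtain ⟨f, hfv, hfU⟩ : ∃ f : V →ₗ[F] F, f w = 1 ∧ ∀ u ∈ U, f u = 0 := by
    obtain ⟨f, hf, hfU⟩ := Submodule.exists_dual_map_eq_bot_of_notMem hvU inferInstance
    refine ⟨(f w)⁻¹ • f, by rw [LinearMap.smul_apply, smul_eq_mul, inv_mul_cancel₀ hf], fun u hu => ?_⟩
    have h1 : f u ∈ U.map f := Submodule.mem_map_of_mem hu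
    rw [hfU, Submodule.mem_bot] at h1
    rw [LinearMap.smul_apply, h1, smul_zero]
  have hproj : ∀ p : V, polar Q w p = 0 → p - f p • w ∈ U := by
    intro p hp
    have h1 : p ∈ U ⊔ Submodule.span F {w} := by
      rw [hU]
      intro z hz
      obtain ⟨c, rfl⟩ := Submodule.mem_span_singleton.1 hz
      rw [polar_smul_left, hp, smul_zero]
    obtain ⟨u, hu, z, hz, rfl⟩ := Submodule.mem_sup.1 h1
    obtain ⟨c, rfl⟩ := Submodule.mem_span_singleton.1 hz
    rw [map_add, hfU u hu, map_smul, hfv, smul_eq_mul, mul_one, zero_add, add_sub_cancel_right]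
    exact hu
  have hP : ∀ p : V, polar Q w p = 0 → polar Q w (h p) = 0 := by
    intro p hp
    have h1 := polar_map hO w p
    rw [hd, polar_smul_left, hp, smul_eq_mul] at h1
    exact (mul_eq_zero.1 h1).resolve_left hd0
  let Y : U →ₗ[F] U := LinearMap.codRestrict U
    ((h.toLinearMap - (f ∘ₗ h.toLinearMap).smulRight w) ∘ₗ U.subtype)
    (fun u => hproj _ (hP _ (hUP _ u.2)))
  have hY : ∀ u : U, (Y u : V) = h u - f (h u) • w := fun u => rfl
  have hYi : Function.Injective Y := by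
    rw [injective_iff_map_eq_zero]
    intro u hu
    have h1 := hY u
    rw [hu, ZeroMemClass.coe_zero] at h1
    have h3 : h u = f (h u) • w := (sub_eq_zero.1 h1.symm)
    have h4 : (u : V) = (f (h u) * d⁻¹) • w := by
      apply h.injective
      rw [map_smul, hd, smul_smul, mul_assoc, inv_mul_cancel₀ hd0, mul_one]
      exact h3
    exact ext_U hU0 (b := 0) (by rw [ZeroMemClass.coe_zero, zero_add]; exact h4)
  refine ⟨LinearEquiv.ofInjectiveEndo Y hYi, fun u => ⟨f (h u), ?_⟩⟩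
  have h1 : ((LinearEquiv.ofInjectiveEndo Y hYi u : U) : V) = h u - f (h u) • w := hY u
  rw [h1, sub_add_cancel]

/-- the induced homomorphism -/
theorem exists_hom (hw0 : w ≠ 0) (hU : U ⊔ Submodule.span F {w} = perp Q (Submodule.span F {w}))
    (hU0 : U ⊓ Submodule.span F {w} = ⊥) (hH : H ≤ O Q) (hHw : ∀ h ∈ H, ∃ c : F, h w = c • w) :
    ∃ Φ : H →* (U ≃ₗ[F] U), Φ.range = ind H U w hHw ∧
      ∀ (h : H) (u : U), ∃ c : F, (h : V ≃ₗ[F] V) (u : V) = (Φ h u : V) + c • w := by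
  have hex : ∀ h : H, ∃ e : U ≃ₗ[F] U, ∀ u : U, ∃ c : F, (h : V ≃ₗ[F] V) (u : V) = (e u : V) + c • w := fun h =>
    exists_ind hw0 hU hU0 (hH h.2) (hHw _ h.2)
  choose φ hφ using hex
  have huniq : ∀ (h : H) (e : U ≃ₗ[F] U), (∀ u : U, ∃ c : F, (h : V ≃ₗ[F] V) (u : V) = (e u : V) + c • w) →
      φ h = e := by
    intro h e he
    ext1 u
    obtain ⟨c, hc⟩ := he u
    obtain ⟨d, hd⟩ := hφ h u
    apply ext_U hU0 (c := c - d)
    rw [sub_smul, ← add_sub_assoc, ← hc, hd, add_sub_cancel_right]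
  let Φ : H →* (U ≃ₗ[F] U) :=
    { toFun := φ
      map_one' := huniq 1 1 (fun u => ⟨0, by rw [zero_smul, add_zero]; rfl⟩)
      map_mul' := by
        intro a b
        apply huniq
        intro u
        obtain ⟨c, hc⟩ := hφ b u
        obtain ⟨d, hd⟩ := hφ a (φ b u)
        obtain ⟨t, ht⟩ := hHw _ a.2
        refine ⟨d + c * t, ?_⟩
        show (a : V ≃ₗ[F] V) ((b : V ≃ₗ[F] V) u) = (φ a (φ b u) : V) + (d + c * t) • w
        rw [hc, map_add, map_smul, ht, hd, add_smul, add_assoc, smul_smul] }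
  refine ⟨Φ, ?_, hφ⟩
  ext e
  constructor
  · rintro ⟨a, rfl⟩
    exact ⟨a, a.2, hφ a⟩
  · rintro ⟨h, hh, hc⟩
    exact ⟨⟨h, hh⟩, huniq ⟨h, hh⟩ e hc⟩

/-- (c) -/
theorem card_ind_dvd (hw0 : w ≠ 0) (hU : U ⊔ Submodule.span F {w} = perp Q (Submodule.span F {w}))
    (hU0 : U ⊓ Submodule.span F {w} = ⊥) (hH : H ≤ O Q) (hHw : ∀ h ∈ H, ∃ c : F, h w = c • w) :
    Nat.card (ind H U w hHw) ∣ Nat.card H := by
  obtain ⟨Φ, hr, -⟩ := exists_hom hw0 hU hU0 hH hHw
  rw [← hr]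
  exact Subgroup.card_range_dvd Φ

/-- (c') -/
theorem card_ind (h2 : (2 : F) = 0) (hQ : Nondeg Q) (hw : Q w ≠ 0)
    (hU : U ⊔ Submodule.span F {w} = perp Q (Submodule.span F {w}))
    (hU0 : U ⊓ Submodule.span F {w} = ⊥) (hH : H ≤ E Q) (hHv : ∀ h ∈ H, h w = w)
    (hHw : ∀ h ∈ H, ∃ c : F, h w = c • w) : Nat.card (ind H U w hHw) = Nat.card H := by
  obtain ⟨Φ, hr, hφ⟩ := exists_hom (ne_zero_of hw) hU hU0 (hH.trans E_le_O) hHw
  have hi : Function.Injective Φ := by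
    rw [injective_iff_map_eq_one]
    intro a ha
    apply Subtype.ext
    refine eq_one_of h2 hQ hw hU (hH a.2) (hHv _ a.2) fun u => ?_
    obtain ⟨c, hc⟩ := hφ a u
    refine ⟨c, ?_⟩
    rw [ha] at hc
    exact hc
  rw [← hr]
  exact (Nat.card_congr (MonoidHom.ofInjective hi).toEquiv).symm

/-- an isometry of `p'`-order fixing `w` and acting trivially on `w^⊥ / ⟨w⟩` is trivial -/
theorem eq_one_of_coprime [Finite F] (hQ : Nondeg Q) (hw0 : w ≠ 0)
    (hU : U ⊔ Submodule.span F {w} = perp Q (Submodule.span F {w})) {k : V ≃ₗ[F] V} (hO : k ∈ O Q) (hkw : k w = w)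
    (hh : ∀ u : U, ∃ c : F, k (u : V) = (u : V) + c • w) (hco : Nat.Coprime (orderOf k) (Nat.card F)) : k = 1 := by
  have hcardF : ((Nat.card F : ℕ) : F) = 0 := by
    have := Fintype.ofFinite F
    rw [Nat.card_eq_fintype_card]
    exact FiniteField.cast_card_eq_zero F
  set q := Nat.card F with hq
  have key : ∀ (b : V ≃ₗ[F] V) (z : V), b w = w → (∃ c : F, b z = z + c • w) → (b ^ q) z = z := by
    intro b z hbw hz
    obtain ⟨c, hc⟩ := hz
    have h1 : ∀ n : ℕ, (b ^ n) z = z + ((n : F) * c) • w := by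
      intro n
      induction n with
      | zero => rw [pow_zero, Nat.cast_zero, zero_mul, zero_smul, add_zero]; rfl
      | succ n ih =>
        rw [pow_succ']
        show b ((b ^ n) z) = _
        rw [ih, map_add, map_smul, hbw, hc, Nat.cast_add, Nat.cast_one, add_mul, one_mul, add_smul]
        abel
    rw [h1, hcardF, zero_mul, zero_smul, add_zero]
  -- `k ^ q` is trivial on `w^⊥`
  have hkq : ∀ p ∈ perp Q (Submodule.span F {w}), (k ^ q) p = p := by
    intro p hp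
    rw [← hU] at hp
    obtain ⟨u, hu, t, ht, rfl⟩ := Submodule.mem_sup.1 hp
    obtain ⟨c, rfl⟩ := Submodule.mem_span_singleton.1 ht
    rw [map_add, map_smul, key k u hkw (hh ⟨u, hu⟩), key k w hkw ⟨0, by rw [zero_smul, add_zero]; exact hkw⟩]
  have hkqw : (k ^ q) w = w := key k w hkw ⟨0, by rw [zero_smul, add_zero]; exact hkw⟩
  have hkqO : k ^ q ∈ O Q := (O Q).pow_mem hO q
  have hall : ∀ z : V, ((k ^ q) ^ q) z = z := by
    intro z
    apply key (k ^ q) z hkqw
    have hin : (k ^ q) z - z ∈ perp Q (perp Q (Submodule.span F {w})) := by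
      intro p hp
      rw [polar_sub_right]
      conv_lhs => rw [← hkq p hp]
      rw [polar_map hkqO, hkq p hp, sub_self]
    rw [perp_perp hQ, Submodule.mem_span_singleton] at hin
    obtain ⟨m, hm⟩ := hin
    exact ⟨m, by rw [hm]; abel⟩
  have h1 : k ^ (q * q) = 1 := by
    rw [pow_mul]
    ext z
    exact hall z
  have h3 := orderOf_dvd_of_pow_eq_one h1
  have h4 : Nat.Coprime (orderOf k) (q * q) := Nat.Coprime.mul_right hco hco
  exact orderOf_eq_one_iff.1 (Nat.Coprime.eq_one_of_dvd h4 h3)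

/-- (d) -/
theorem ind_elt [Finite F] (hQ : Nondeg Q) (hw0 : w ≠ 0)
    (hU : U ⊔ Submodule.span F {w} = perp Q (Submodule.span F {w}))
    (hU0 : U ⊓ Submodule.span F {w} = ⊥) (hH : H ≤ O Q) (hHw : ∀ h ∈ H, ∃ c : F, h w = c • w)
    {h : V ≃ₗ[F] V} (hh : h ∈ H) (hhw : h w = w) (hco : Nat.Coprime (orderOf h) (Nat.card F)) :
    ∃ e ∈ ind H U w hHw, orderOf e = orderOf h ∧ ∀ u : U, ∃ c : F, h (u : V) = (e u : V) + c • w := by
  obtain ⟨Φ, hr, hΦ⟩ := exists_hom hw0 hU hU0 hH hHw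
  refine ⟨Φ ⟨h, hh⟩, ?_, ?_, hΦ ⟨h, hh⟩⟩
  · rw [← hr]
    exact ⟨_, rfl⟩
  · apply Nat.dvd_antisymm
    · rw [← Subgroup.orderOf_mk h hh]
      exact orderOf_map_dvd Φ _
    · set j := orderOf (Φ ⟨h, hh⟩) with hj
      apply orderOf_dvd_of_pow_eq_one
      have hjw : (h ^ j) w = w := by
        have : ∀ n : ℕ, (h ^ n) w = w := by
          intro n
          induction n with
          | zero => rfl
          | succ n ih =>
            rw [pow_succ']
            show h ((h ^ n) w) = w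
            rw [ih, hhw]
        exact this j
      refine eq_one_of_coprime hQ hw0 hU ((O Q).pow_mem (hH hh) j) hjw (fun u => ?_) ?_
      · obtain ⟨c, hc⟩ := hΦ (⟨h, hh⟩ ^ j) u
        refine ⟨c, ?_⟩
        have h1 : Φ (⟨h, hh⟩ ^ j) = 1 := by rw [map_pow, hj, pow_orderOf_eq_one]
        rw [h1] at hc
        exact hc
      · exact Nat.Coprime.coprime_dvd_left (orderOf_pow_dvd j) hco

/-- (e) -/
theorem ind_plane [Finite F] (h2 : (2 : F) = 0) (hQ : Nondeg Q) (hw : Q w ≠ 0)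
    (hU : U ⊔ Submodule.span F {w} = perp Q (Submodule.span F {w}))
    (hU0 : U ⊓ Submodule.span F {w} = ⊥) (hn : finrank F U + 2 = finrank F V) (hH : H ≤ O Q)
    (hHv : ∀ h ∈ H, h w = w) (hHw : ∀ h ∈ H, ∃ c : F, h w = c • w)
    {R : QuadraticForm F U} (hR : ∀ a b, polar R a b = polar (res Q U) a b)
    (hE : E R ≤ ind H U w hHw) (hO : ind H U w hHw ≤ O R) :
    ∃ P : Submodule F V, finrank F P = 2 ∧ w ∈ P ∧ Nondeg (res Q P) ∧ (∀ h ∈ H, ∀ x ∈ P, h x ∈ P) ∧
      ∀ y ∈ E (res Q (perp Q P)), ∃ a ∈ H, ∀ z : perp Q P, a (z : V) = (y z : V) := by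
  obtain ⟨l, hl⟩ := exists_lin (R := res Q U) (R' := R) h2 hR hw
  have hUP := perp_U hU
  obtain ⟨Φ, hr, hΦ⟩ := exists_hom (ne_zero_of hw) hU hU0 hH hHw
  have hnd := nondeg_cpl hQ hU hU0
  let j : U →ₗ[F] V := U.subtype + l.smulRight w
  have hj : ∀ u : U, j u = (u : V) + l u • w := fun u => rfl
  have hQt : ∀ (u : U) (t : F), Q ((u : V) + t • w) = Q u + t * t * Q w := by
    intro u t
    rw [Cfsg.Agent.H588.Rg.Q_add_smul, polar_comm Q (u : V) w, hUP _ u.2, mul_zero, add_zero]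
  have hQj : ∀ u : U, Q (j u) = R u := by
    intro u
    rw [hj, hQt, hl]
    rfl
  have hpj : ∀ a b : U, polar Q (j a) (j b) = polar Q (a : V) (b : V) := by
    intro a b
    have h1 : polar Q (j a) (j b) = polar R a b := by
      rw [QuadraticMap.polar, QuadraticMap.polar, ← map_add, hQj, hQj, hQj]
    rw [h1, hR]
    rfl
  have hji : Function.Injective j := by
    rw [injective_iff_map_eq_zero]
    intro u hu
    apply hnd
    intro z
    show polar Q (u : V) (z : V) = 0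
    rw [← hpj, hu, polar_zero_left]
  have hinv : ∀ (h : H) (u : U), (h : V ≃ₗ[F] V) (j u) = j (Φ h u) := by
    intro h u
    obtain ⟨c, hc⟩ := hΦ h u
    have e1 : (h : V ≃ₗ[F] V) (j u) = (Φ h u : V) + (c + l u) • w := by
      rw [hj, map_add, map_smul, hHv _ h.2, hc, add_smul, add_assoc]
    have e2 : Q ((h : V ≃ₗ[F] V) (j u)) = R u := by
      rw [mem_O.1 (hH h.2), hQj]
    have e3 : R (Φ h u) = R u := mem_O.1 (hO (by rw [← hr]; exact ⟨h, rfl⟩)) u
    rw [← e3, ← hQj, e1, hj, hQt, hQt] at e2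
    have e4 : (c + l u) * (c + l u) * Q w = l (Φ h u) * l (Φ h u) * Q w := add_left_cancel e2
    have e5 := mul_right_cancel₀ hw e4
    rw [← pow_two, ← pow_two] at e5
    rw [e1, hj, Cfsg.Agent.H177.Rg.sq_inj h2 e5]
  have hvj : ∀ u, polar Q w (j u) = 0 := by
    intro u
    rw [hj, polar_add_right, polar_smul_right, hUP _ u.2, polar_vv h2, smul_zero, add_zero]
  set U' : Submodule F V := LinearMap.range j with hU'
  have hfr : finrank F U' = finrank F U := LinearMap.finrank_range_of_inj hji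
  have hU'nd : Nondeg (res Q U') := by
    rw [nondeg_res_iff]
    rintro _ ⟨u, rfl⟩ h
    have h1 : u = 0 := by
      apply hnd
      intro z
      show polar Q (u : V) (z : V) = 0
      rw [← hpj]
      exact h _ ⟨z, rfl⟩
    rw [h1, map_zero]
  have hPP : perp Q (perp Q U') = U' := perp_perp hQ U'
  refine ⟨perp Q U', ?_, ?_, nondeg_perp hQ hU'nd, ?_, ?_⟩
  · have := finrank_add_perp hQ U'
    omega
  · rintro _ ⟨u, rfl⟩
    rw [polar_comm]
    exact hvj u
  · rintro h hh x hx _ ⟨u, rfl⟩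
    have e1 := hinv ⟨h, hh⟩ ((Φ ⟨h, hh⟩)⁻¹ u)
    have e2 : Φ ⟨h, hh⟩ ((Φ ⟨h, hh⟩)⁻¹ u) = u := (Φ ⟨h, hh⟩).apply_symm_apply u
    rw [e2] at e1
    have e3 : h (j ((Φ ⟨h, hh⟩)⁻¹ u)) = j u := e1
    rw [← e3, polar_map (hH hh)]
    exact hx _ ⟨_, rfl⟩
  · intro y hy
    have hrange : LinearMap.range j = perp Q (perp Q U') := hPP.symm
    let e : U ≃ₗ[F] ↥(perp Q (perp Q U')) := (LinearEquiv.ofInjective j hji).trans (LinearEquiv.ofEq _ _ hrange)
    have he : ∀ u, ((e u : ↥(perp Q (perp Q U'))) : V) = j u := fun u => rfl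
    have hy' := E_transport (Q := res Q (perp Q (perp Q U'))) (Q' := R) e.symm (fun x => by
      obtain ⟨u, rfl⟩ := e.surjective x
      rw [e.symm_apply_apply, ← hQj, ← he]
      rfl) hy
    obtain ⟨a, ha⟩ : ∃ a : H, Φ a = (e.symm.symm.trans y).trans e.symm := by
      have h1 := hE hy'
      rw [← hr] at h1
      exact h1
    refine ⟨a, a.2, fun z => ?_⟩
    obtain ⟨u, rfl⟩ := e.surjective z
    rw [he, hinv, ha]
    show j (e.symm (y (e u))) = _
    rw [← he, e.apply_symm_apply]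

end Cfsg.Agent.H195.Rg.Two
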