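import Cfsg.Agent.H826.RgF.Both
import Cfsg.Agent.H195.Rg.Sec2

/-!
# S3691, plus type, reduction: `X` fixes a nonsingular point, `q` even (helper195, for helper826)
-/

set_option autoImplicit false
set_option linter.unusedSectionVars false
set_option linter.unusedVariables false

namespace Cfsg.Agent.H195.RgL

open Module QuadraticMap Cfsg Cfsg.Geo Cfsg.Agent.LieClassical.OrthCore Cfsg.Agent.LieClassical.OrthTrans
  Cfsg.Agent.H454.Reg Cfsg.Agent.H449.Reg Cfsg.Agent.H955 Cfsg.Agent.H954.TSing Cfsg.Agent.H884.El Cfsg.Agent.H826.RgF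
open Cfsg.Agent.H951 (fx cm Inv)
open Cfsg.Agent.H111.Rg (rstr rstr_apply)
open Cfsg.Agent.H826.Rg (preE mem_preE preE_le_E preE_le_O mem_preE_iff mem_preE_iff' card_preE)
open Cfsg.Agent.H964.Rg (ResV ResP Cx)

universe u

section abs

variable {F : Type} [Field F] [Fintype F] {V : Type} [AddCommGroup V] [Module F V] [FiniteDimensional F V]
  {Q : QuadraticForm F V} {B : Subgroup (V ≃ₗ[F] V)}

/-- a group containing an element of order `r`, `ord_r(q) = dim V`, is irreducible -/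
theorem not_rd {e r : ℕ} (hr : PP (Nat.card F) e r) (he : 2 ≤ e) (hn : finrank F V = e) {y : V ≃ₗ[F] V} (hy : y ∈ B)
    (hyr : y ^ r = 1) (hy1 : y ≠ 1) : ¬ Rd B := by
  rintro ⟨W, hW0, hW1, hW⟩
  have h1 := H522.Rg.fx_even hr he (by omega) hyr hy1
  have h2 : fx (y : Module.End F V) = ⊥ := Submodule.finrank_eq_zero.1 (by omega)
  have h3 : finrank F W < e := by
    rw [← hn]
    exact Submodule.finrank_lt hW1
  have h4 := fix_pow hr (by omega) h3 1 y (fun w hw => hW y hy w hw) (by rw [pow_one]; exact hyr)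
  apply hW0
  rw [eq_bot_iff, ← h2]
  intro w hw
  exact H951.mem_fx.2 (h4 w hw)

/-- no extension field -/
theorem not_ext (hQ : Nondeg Q) (hB : ∀ h ∈ B, ∀ u v, polar Q (h u) (h v) = polar Q u v) {m r2 r4 j s : ℕ} (hm : 5 ≤ m)
    (hn : finrank F V = 2 * m - 2) (hr2 : PP (Nat.card F) (2 * m - 2) r2) (hr4 : PP (Nat.card F) (2 * m - 4) r4)
    (hj : 1 ≤ j) {y : V ≃ₗ[F] V} (hyB : y ∈ B) (hyr : y ^ r2 = 1) (hy1 : y ≠ 1) (h4 : El B (r4 ^ j)) (hs : s.Prime)
    (hK : AExt s B) : False := by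
  have hnrd := not_rd hr2 (by omega) hn hyB hyr hy1
  obtain ⟨z, hz, hzr, hz1⟩ := h4.exists_prime hr4.prime hj
  have hzd := H522.Rg.fx_even hr4 (by omega) (by rw [hn]; omega) hzr hz1
  have hs2 : s = 2 := by
    refine s_two hs hK hz hr4.prime hzr ?_ (by omega)
    rintro rfl
    have h5 := hK.dvd_finrank
    rw [hn] at h5
    have h6 := hr4.lt (by omega)
    obtain ⟨c, hc⟩ := h5
    have h7 : c < 2 := by
      by_contra hcon
      push Not at hcon
      have := Nat.mul_le_mul_left r4 hcon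
      omega
    have h8 : c = 1 := by
      rcases (by omega : c = 0 ∨ c = 1) with rfl | rfl
      · omega
      · rfl
    rw [h8, mul_one] at hc
    have h9 := hr4.odd (by omega)
    obtain ⟨d, hd⟩ := h9
    omega
  subst hs2
  refine not_two' hQ hB hm (by omega) hr2 hr4 ?_ ?_ hnrd hK
  · have h5 : El B r2 := ⟨y, hyB, by
      have := Fact.mk hr2.prime
      exact orderOf_eq_prime hyr hy1⟩
    exact h5.dvd
  · exact h4.prime_dvd hj

end abs

variable {ι : Type} [Fintype ι] [DecidableEq ι] {F : Type} [Field F] [Fintype F] {Q : QuadraticForm F (ι → F)}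
variable {G : Type u} [Group G] [Finite G] {T : Subgroup G} [T.Normal] {hG : Good Q} {eT : T ≃* POmega F (⇑Q)}
  {hI : Ind (eP hG eT)} {X Y : Subgroup G} {p f m : ℕ}

/-- **`X` fixes a nonsingular point, `q` even** (the odd case is `H826.RgF.line_odd`, same shape) -/
theorem line_even (hQ2 : IsPlus Q) (hn : finrank F (ι → F) = 2 * m) (hm : 5 ≤ m) {r2 r4 i j : ℕ}
    (hr2 : PP (Nat.card F) (2 * m - 2) r2) (hr4 : PP (Nat.card F) (2 * m - 4) r4) (hj : 1 ≤ j)
    (h2 : El (preE (eP hG eT) X) (r2 ^ i)) (h4 : El (preE (eP hG eT) X) (r4 ^ j))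
    (h2F : (2 : F) = 0) (hLS : LBS F (2 * m - 2) (r2 ^ i) (r4 ^ j))
    {x : (ι → F) ≃ₗ[F] (ι → F)} (hx : x ∈ preE (eP hG eT) X) (hxr : x ^ r2 = 1) (hx1 : x ≠ 1)
    {v : ι → F} (hv : v ∈ fx (x : Module.End F (ι → F))) (hv0 : v ≠ 0) (hvX : ∀ y ∈ X, act hI y (F ∙ v) = F ∙ v) :
    ResV hI X v ∨ Iv (preE (eP hG eT) X) (fx (x : Module.End F (ι → F))) := by
  have hQ : Nondeg Q := hG.nondeg
  have hxO : x ∈ O Q := preE_le_O hx
  obtain ⟨hPd, hPa⟩ := fx_type hQ hQ2 hm hn hr2 hxO hxr hx1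
  have hQv : Q v ≠ 0 := fun h0 => hv0 (hPa v hv h0)
  have hLi : Iv (preE (eP hG eT) X) (F ∙ v) := inv0_iffE.1 fun t ht => hvX _ ht
  have hAv : ∀ a ∈ preE (eP hG eT) X, a v = v := by
    intro a ha
    obtain ⟨c, hc⟩ := Submodule.mem_span_singleton.1 (hLi a ha v (Submodule.mem_span_singleton_self v))
    have h5 := mem_O.1 (preE_le_O ha) v
    rw [← hc, QuadraticMap.map_smul, smul_eq_mul] at h5
    have h6 : c * c = 1 := mul_right_cancel₀ hQv (by rw [h5, one_mul])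
    have h7 : c = 1 := H177.Rg.sq_inj h2F (by rw [pow_two, h6, one_pow])
    rw [← hc, h7, one_smul]
  have hww : polar Q v v = 0 := H195.Rg.polar_vv h2F v
  obtain ⟨U, hU, hU0, hUn, hUd⟩ := H195.Rg.Two.exists_cpl hQ hv0 hww
  have hUd' : finrank F U = 2 * m - 2 := by omega
  have hHw : ∀ h ∈ preE (eP hG eT) X, ∃ c : F, h v = c • v := fun h hh => ⟨1, by rw [one_smul]; exact hAv h hh⟩
  have hBp : ∀ e ∈ H195.Rg.Two.ind (preE (eP hG eT) X) U v hHw, ∀ a b,
      polar (res Q U) (e a) (e b) = polar (res Q U) a b :=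
    fun e he a b => H195.Rg.Two.ind_polar hww hU preE_le_O he a b
  have hel : ∀ {e r k : ℕ}, PP (Nat.card F) e r → 1 ≤ e → El (preE (eP hG eT) X) (r ^ k) →
      El (H195.Rg.Two.ind (preE (eP hG eT) X) U v hHw) (r ^ k) := by
    rintro e r k hr he ⟨g, hg, ho⟩
    obtain ⟨b, hb, hbo, -⟩ := H195.Rg.Two.ind_elt hQ hv0 hU hU0 preE_le_O hHw hg (hAv g hg) (by
      rw [ho]
      exact Nat.Coprime.pow_left _ ((Nat.Prime.coprime_iff_not_dvd hr.prime).2 (hr.not_dvd he)))
    exact ⟨b, hb, hbo.trans ho⟩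
  have e2 := hel hr2 (by omega) h2
  have e4 := hel hr4 (by omega) h4
  obtain ⟨y, hyB, hyo⟩ : El (H195.Rg.Two.ind (preE (eP hG eT) X) U v hHw) (r2 ^ 1) :=
    hel hr2 (by omega) ⟨x, hx, order_one hr2.prime hxr hx1⟩
  rw [pow_one] at hyo
  have hyr : y ^ r2 = 1 := by rw [← hyo, pow_orderOf_eq_one]
  have hy1 : y ≠ 1 := by
    intro h0
    rw [h0, orderOf_one] at hyo
    exact hr2.prime.one_lt.ne hyo
  have hfull : (∀ z : U ≃ₗ[F] U, (∀ a b, polar (res Q U) (z a) (z b) = polar (res Q U) a b) →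
      z ∈ H195.Rg.Two.ind (preE (eP hG eT) X) U v hHw) → ResV hI X v := by
    intro h
    refine ⟨hQv, hvX, fun u w hu hw huv hwv => ?_⟩
    rw [← mem_preE_iff' (hG := hG)]
    exact H588.Rg.lift_even h2F hQ hQv preE_le_E (by omega) hAv hU hU0 (fun z hz => by
      obtain ⟨a, ha, hc⟩ := h z hz
      exact ⟨a, ha, hc⟩) hu hw huv hwv
  rcases hLS hUn hUd' (H195.Rg.Two.ind (preE (eP hG eT) X) U v hHw) hBp e2 e4 with h | ⟨s, hs, hK⟩ | h | ⟨R, hR, hE⟩
  · exact (not_rd hr2 (by omega) hUd' hyB hyr hy1 h).elim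
  · exact (not_ext hUn hBp hm hUd' hr2 hr4 hj hyB hyr hy1 e4 hs hK).elim
  · exact Or.inl (hfull h)
  · have hRn : Nondeg R := by
      intro a ha
      apply hUn a
      intro b
      rw [← hR]
      exact ha b
    rcases H177.Rg.sp_over h2F hRn (by omega) (fun h hh a b => by rw [hR, hR, hBp h hh]) hE with hO | hall
    · right
      obtain ⟨P, hP2, hvP, hPn, hPi, -⟩ := H195.Rg.Two.ind_plane h2F hQ hQv hU hU0 hUd preE_le_O hAv hHw hR hE hO
      have hle : P ≤ fx (x : Module.End F (ι → F)) :=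
        le_fx hr2 (by omega) hxO hxr (fun w hw => hPi x hx w hw) (by rw [hP2]; omega)
      have heq : P = fx (x : Module.End F (ι → F)) := Submodule.eq_of_le_of_finrank_eq hle (by rw [hP2, hPd])
      rw [← heq]
      exact hPi
    · exact Or.inl (hfull fun z hz => hall z fun a b => by rw [hR, hR, hz])

end Cfsg.Agent.H195.RgL
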