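import Cfsg.Agent.H588.Rg.LiftEven
import Cfsg.Agent.H177.Rg.SpOver
import Cfsg.Agent.H890.SpParity

/-!
# S3691 (R3): the section `v^⊥ / ⟨v⟩`, characteristic two, `v` nonsingular (helper195, for helper826)
-/

set_option autoImplicit false
set_option linter.unusedSectionVars false

namespace Cfsg.Agent.H195.Rg

open Module QuadraticMap Cfsg.Agent.LieClassical.OrthCore Cfsg.Agent.LieClassical.OrthTrans Cfsg.Agent.H955

universe u v w

variable {F : Type u} [Field F] {V : Type v} [AddCommGroup V] [Module F V] [FiniteDimensional F V]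
  {Q : QuadraticForm F V} {H : Subgroup (V ≃ₗ[F] V)}

/-! ### the complement -/

theorem ne_zero_of {v : V} (hv : Q v ≠ 0) : v ≠ 0 := by
  rintro rfl; exact hv (QuadraticMap.map_zero Q)

theorem polar_vv (h2 : (2 : F) = 0) (v : V) : polar Q v v = 0 := by rw [polar_self', h2, zero_mul]

theorem span_le_perp (h2 : (2 : F) = 0) (v : V) : Submodule.span F {v} ≤ perp Q (Submodule.span F {v}) := by
  intro x hx y hy
  obtain ⟨a, rfl⟩ := Submodule.mem_span_singleton.1 hx
  obtain ⟨b, rfl⟩ := Submodule.mem_span_singleton.1 hy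
  rw [polar_smul_left, polar_smul_right, polar_vv h2, smul_zero, smul_zero]

theorem perp_U {v : V} {U : Submodule F V} (hU : U ⊔ Submodule.span F {v} = perp Q (Submodule.span F {v})) :
    ∀ u ∈ U, polar Q v u = 0 := by
  intro u hu
  have h1 : u ∈ perp Q (Submodule.span F {v}) := by rw [← hU]; exact Submodule.mem_sup_left hu
  exact h1 v (Submodule.mem_span_singleton_self v)

theorem nondeg_cpl (hQ : Nondeg Q) {v : V} {U : Submodule F V}
    (hU : U ⊔ Submodule.span F {v} = perp Q (Submodule.span F {v}))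
    (hU0 : U ⊓ Submodule.span F {v} = ⊥) : Nondeg (res Q U) := by
  rw [nondeg_res_iff]
  intro u hu h
  have h1 : u ∈ perp Q (perp Q (Submodule.span F {v})) := by
    intro p hp
    rw [← hU] at hp
    obtain ⟨w, hw, t, ht, rfl⟩ := Submodule.mem_sup.1 hp
    obtain ⟨c, rfl⟩ := Submodule.mem_span_singleton.1 ht
    rw [polar_comm, polar_add_right, h w hw, polar_smul_right, polar_comm, perp_U hU u hu, smul_zero, add_zero]
  rw [perp_perp hQ] at h1
  have h3 : u ∈ U ⊓ Submodule.span F {v} := ⟨hu, h1⟩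
  rwa [hU0, Submodule.mem_bot] at h3

/-- (a) -/
theorem exists_cpl (h2 : (2 : F) = 0) (hQ : Nondeg Q) {v : V} (hv : Q v ≠ 0) :
    ∃ U : Submodule F V, U ⊔ Submodule.span F {v} = perp Q (Submodule.span F {v}) ∧
      U ⊓ Submodule.span F {v} = ⊥ ∧ Nondeg (res Q U) ∧ finrank F U + 2 = finrank F V := by
  obtain ⟨C, hC⟩ := Submodule.exists_isCompl (Submodule.span F {v})
  have hle := span_le_perp (Q := Q) h2 v
  have h1 : (C ⊓ perp Q (Submodule.span F {v})) ⊔ Submodule.span F {v} = perp Q (Submodule.span F {v}) := by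
    rw [sup_comm, ← sup_inf_assoc_of_le _ hle, hC.sup_eq_top, top_inf_eq]
  have h0 : (C ⊓ perp Q (Submodule.span F {v})) ⊓ Submodule.span F {v} = ⊥ := by
    rw [eq_bot_iff, ← hC.inf_eq_bot]
    exact le_inf inf_le_right (inf_le_left.trans inf_le_left)
  refine ⟨_, h1, h0, nondeg_cpl hQ h1 h0, ?_⟩
  have h3 := Submodule.finrank_sup_add_finrank_inf_eq (C ⊓ perp Q (Submodule.span F {v})) (Submodule.span F {v})
  rw [h1, h0, finrank_bot, add_zero, finrank_span_singleton (ne_zero_of hv)] at h3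
  have h4 := finrank_add_perp hQ (Submodule.span F {v})
  rw [finrank_span_singleton (ne_zero_of hv)] at h4
  omega

/-! ### the induced group -/

/-- (b) the group induced by `H` on `v^⊥ / ⟨v⟩`, realised on a complement `U` of `⟨v⟩` in `v^⊥` -/
def ind (H : Subgroup (V ≃ₗ[F] V)) (U : Submodule F V) (v : V) (_hU0 : U ⊓ Submodule.span F {v} = ⊥) :
    Subgroup (U ≃ₗ[F] U) where
  carrier := {e | ∃ h ∈ H, h v = v ∧ ∀ u : U, ∃ c : F, h (u : V) = (e u : V) + c • v}
  mul_mem' := by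
    rintro e1 e2 ⟨h1, hh1, hv1, hc1⟩ ⟨h2, hh2, hv2, hc2⟩
    refine ⟨h1 * h2, H.mul_mem hh1 hh2, ?_, fun u => ?_⟩
    · show h1 (h2 v) = v
      rw [hv2, hv1]
    · obtain ⟨c2, hc2⟩ := hc2 u
      obtain ⟨c1, hc1⟩ := hc1 (e2 u)
      refine ⟨c1 + c2, ?_⟩
      show h1 (h2 u) = (e1 (e2 u) : V) + (c1 + c2) • v
      rw [hc2, map_add, map_smul, hv1, hc1, add_smul, add_assoc]
  one_mem' := ⟨1, H.one_mem, rfl, fun u => ⟨0, by rw [zero_smul, add_zero]; rfl⟩⟩
  inv_mem' := by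
    rintro e ⟨h, hh, hv, hc⟩
    have hv' : h⁻¹ v = v := h.symm_apply_eq.2 hv.symm
    refine ⟨h⁻¹, H.inv_mem hh, hv', fun u => ?_⟩
    obtain ⟨c, hc⟩ := hc (e⁻¹ u)
    refine ⟨-c, ?_⟩
    have h1 : e (e⁻¹ u) = u := e.apply_symm_apply u
    rw [h1] at hc
    have h3 : h⁻¹ (h ((e⁻¹ u : U) : V)) = ((e⁻¹ u : U) : V) := h.symm_apply_apply _
    rw [hc, map_add, map_smul, hv'] at h3
    rw [← h3, neg_smul, add_neg_cancel_right]

variable {v : V} {U : Submodule F V}

theorem ind_polar (h2 : (2 : F) = 0) (hU : U ⊔ Submodule.span F {v} = perp Q (Submodule.span F {v}))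
    (hU0 : U ⊓ Submodule.span F {v} = ⊥) (hH : H ≤ O Q) {e : U ≃ₗ[F] U} (he : e ∈ ind H U v hU0) (a b : U) :
    polar (res Q U) (e a) (e b) = polar (res Q U) a b := by
  obtain ⟨h, hh, hv, hc⟩ := he
  obtain ⟨c, hc1⟩ := hc a
  obtain ⟨d, hd1⟩ := hc b
  have h3 := polar_map (hH hh) (a : V) (b : V)
  rw [hc1, hd1, polar_add_left, polar_add_right, polar_add_right, polar_smul_left, polar_smul_left,
    polar_smul_right, polar_smul_right, polar_vv h2, polar_comm Q (e a : V) v, perp_U hU _ (e a).2,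
    perp_U hU _ (e b).2] at h3
  simp only [smul_zero, add_zero] at h3
  exact h3

theorem ext_U (hU0 : U ⊓ Submodule.span F {v} = ⊥) {a b : U} {c : F} (h : (a : V) = (b : V) + c • v) : a = b := by
  have h1 : ((a - b : U) : V) ∈ U ⊓ Submodule.span F {v} := by
    refine ⟨(a - b).2, ?_⟩
    rw [AddSubgroupClass.coe_sub, h, add_sub_cancel_left]
    exact Submodule.smul_mem _ _ (Submodule.mem_span_singleton_self v)
  rw [hU0, Submodule.mem_bot] at h1
  have h3 : a - b = 0 := Subtype.ext h1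
  exact sub_eq_zero.1 h3

theorem exists_ind (h2 : (2 : F) = 0) (hQ : Nondeg Q) (hv : Q v ≠ 0)
    (hU : U ⊔ Submodule.span F {v} = perp Q (Submodule.span F {v}))
    (hU0 : U ⊓ Submodule.span F {v} = ⊥) {h : V ≃ₗ[F] V} (hO : h ∈ O Q) (hhv : h v = v) :
    ∃ e : U ≃ₗ[F] U, ∀ u : U, ∃ c : F, h (u : V) = (e u : V) + c • v := by
  have hv0 : v ≠ 0 := ne_zero_of hv
  have hvU : v ∉ U := by
    intro h
    have h1 : v ∈ U ⊓ Submodule.span F {v} := ⟨h, Submodule.mem_span_singleton_self v⟩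
    rw [hU0, Submodule.mem_bot] at h1
    exact hv0 h1
  have hUP := perp_U hU
  obtain ⟨f, hfv, hfU⟩ : ∃ f : V →ₗ[F] F, f v = 1 ∧ ∀ u ∈ U, f u = 0 := by
    obtain ⟨f, hf, hfU⟩ := Submodule.exists_dual_map_eq_bot_of_notMem hvU inferInstance
    refine ⟨(f v)⁻¹ • f, by rw [LinearMap.smul_apply, smul_eq_mul, inv_mul_cancel₀ hf], fun u hu => ?_⟩
    have h1 : f u ∈ U.map f := Submodule.mem_map_of_mem hu
    rw [hfU, Submodule.mem_bot] at h1
    rw [LinearMap.smul_apply, h1, smul_zero]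
  have hproj : ∀ p : V, polar Q v p = 0 → p - f p • v ∈ U := by
    intro p hp
    have h1 : p ∈ U ⊔ Submodule.span F {v} := by
      rw [hU]
      intro w hw
      obtain ⟨c, rfl⟩ := Submodule.mem_span_singleton.1 hw
      rw [polar_smul_left, hp, smul_zero]
    obtain ⟨u, hu, w, hw, rfl⟩ := Submodule.mem_sup.1 h1
    obtain ⟨c, rfl⟩ := Submodule.mem_span_singleton.1 hw
    rw [map_add, hfU u hu, map_smul, hfv, smul_eq_mul, mul_one, zero_add, add_sub_cancel_right]
    exact hu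
  have hP : ∀ p : V, polar Q v p = 0 → polar Q v (h p) = 0 := by
    intro p hp
    rw [← hhv, polar_map hO, hp]
  let Y : U →ₗ[F] U := LinearMap.codRestrict U
    ((h.toLinearMap - (f ∘ₗ h.toLinearMap).smulRight v) ∘ₗ U.subtype)
    (fun u => hproj _ (hP _ (hUP _ u.2)))
  have hY : ∀ u : U, (Y u : V) = h u - f (h u) • v := fun u => rfl
  have hYi : Function.Injective Y := by
    rw [injective_iff_map_eq_zero]
    intro u hu
    have h1 := hY u
    rw [hu, ZeroMemClass.coe_zero] at h1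
    have h3 : h u = f (h u) • v := (sub_eq_zero.1 h1.symm)
    have h4 : (u : V) = f (h u) • v := by
      apply h.injective
      rw [map_smul, hhv]
      exact h3
    exact ext_U hU0 (b := 0) (by rw [ZeroMemClass.coe_zero, zero_add]; exact h4)
  refine ⟨LinearEquiv.ofInjectiveEndo Y hYi, fun u => ⟨f (h u), ?_⟩⟩
  have h1 : ((LinearEquiv.ofInjectiveEndo Y hYi u : U) : V) = h u - f (h u) • v := hY u
  rw [h1, sub_add_cancel]

theorem refl_notMem (hQ : Nondeg Q) (hv : Q v ≠ 0) : refl Q v hv ∉ E Q := by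
  intro h
  have h1 := Cfsg.Agent.H890.SpParity.even_E hQ h
  have h3 := Cfsg.Agent.H890.SpParity.odd_refl_E hQ (E Q).one_mem hv
  rw [mul_one] at h3
  exact h3 h1

/-- an element of `E Q` that fixes `v` and acts trivially on `v^⊥ / ⟨v⟩` is trivial -/
theorem eq_one_of (h2 : (2 : F) = 0) (hQ : Nondeg Q) (hv : Q v ≠ 0)
    (hU : U ⊔ Submodule.span F {v} = perp Q (Submodule.span F {v})) {h : V ≃ₗ[F] V} (hE : h ∈ E Q) (hhv : h v = v)
    (hh : ∀ u : U, ∃ c : F, h (u : V) = (u : V) + c • v) : h = 1 := by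
  have hO : h ∈ O Q := E_le_O hE
  have hUP := perp_U hU
  have hbU : ∀ u ∈ U, h u = u := by
    intro u hu
    obtain ⟨c, hc⟩ := hh ⟨u, hu⟩
    have hc' : h u = u + c • v := hc
    have h5 := mem_O.1 hO u
    rw [hc', Cfsg.Agent.H588.Rg.Q_add_smul, polar_comm Q u v, hUP u hu, mul_zero, add_zero, add_eq_left] at h5
    have h6 : c = 0 := by
      rcases mul_eq_zero.1 h5 with h | h
      · exact mul_self_eq_zero.1 h
      · exact absurd h hv
    rw [hc', h6, zero_smul, add_zero]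
  have hbP : ∀ p ∈ perp Q (Submodule.span F {v}), h p = p := by
    intro p hp
    rw [← hU] at hp
    obtain ⟨w, hw, t, ht, rfl⟩ := Submodule.mem_sup.1 hp
    obtain ⟨c, rfl⟩ := Submodule.mem_span_singleton.1 ht
    rw [map_add, map_smul, hbU w hw, hhv]
  rcases Cfsg.Agent.H588.Rg.eq_one_or_refl hQ hv hO hbP with h1 | h1
  · exact h1
  · exfalso
    rw [h1] at hE
    exact refl_notMem hQ hv hE

/-- the induced homomorphism -/
theorem exists_hom (h2 : (2 : F) = 0) (hQ : Nondeg Q) (hv : Q v ≠ 0)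
    (hU : U ⊔ Submodule.span F {v} = perp Q (Submodule.span F {v}))
    (hU0 : U ⊓ Submodule.span F {v} = ⊥) (hH : H ≤ E Q) (hHv : ∀ h ∈ H, h v = v) :
    ∃ Φ : H →* (U ≃ₗ[F] U), Function.Injective Φ ∧ Φ.range = ind H U v hU0 ∧
      ∀ (h : H) (u : U), ∃ c : F, (h : V ≃ₗ[F] V) (u : V) = (Φ h u : V) + c • v := by
  have hex : ∀ h : H, ∃ e : U ≃ₗ[F] U, ∀ u : U, ∃ c : F, (h : V ≃ₗ[F] V) (u : V) = (e u : V) + c • v := fun h =>
    exists_ind h2 hQ hv hU hU0 (E_le_O (hH h.2)) (hHv _ h.2)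
  choose φ hφ using hex
  have huniq : ∀ (h : H) (e : U ≃ₗ[F] U), (∀ u : U, ∃ c : F, (h : V ≃ₗ[F] V) (u : V) = (e u : V) + c • v) →
      φ h = e := by
    intro h e he
    ext1 u
    obtain ⟨c, hc⟩ := he u
    obtain ⟨d, hd⟩ := hφ h u
    apply ext_U hU0 (c := c - d)
    rw [sub_smul, ← add_sub_assoc, ← hc, hd, add_sub_cancel_right]
  let Φ : H →* (U ≃ₗ[F] U) :=
    { toFun := φ
      map_one' := huniq 1 1 (fun u => ⟨0, by rw [zero_smul, add_zero]; rfl⟩)
      map_mul' := by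
        intro a b
        apply huniq
        intro u
        obtain ⟨c, hc⟩ := hφ b u
        obtain ⟨d, hd⟩ := hφ a (φ b u)
        refine ⟨d + c, ?_⟩
        show (a : V ≃ₗ[F] V) ((b : V ≃ₗ[F] V) u) = (φ a (φ b u) : V) + (d + c) • v
        rw [hc, map_add, map_smul, hHv _ a.2, hd, add_smul, add_assoc] }
  refine ⟨Φ, ?_, ?_, hφ⟩
  · rw [injective_iff_map_eq_one]
    intro a ha
    apply Subtype.ext
    refine eq_one_of h2 hQ hv hU (hH a.2) (hHv _ a.2) fun u => ?_
    obtain ⟨c, hc⟩ := hφ a u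
    refine ⟨c, ?_⟩
    have h1 : φ a = 1 := ha
    rw [h1] at hc
    exact hc
  · ext e
    constructor
    · rintro ⟨a, rfl⟩
      exact ⟨a, a.2, hHv _ a.2, hφ a⟩
    · rintro ⟨h, hh, -, hc⟩
      exact ⟨⟨h, hh⟩, huniq ⟨h, hh⟩ e hc⟩

/-- (c) -/
theorem card_ind (h2 : (2 : F) = 0) (hQ : Nondeg Q) (hv : Q v ≠ 0)
    (hU : U ⊔ Submodule.span F {v} = perp Q (Submodule.span F {v}))
    (hU0 : U ⊓ Submodule.span F {v} = ⊥) (hH : H ≤ E Q) (hHv : ∀ h ∈ H, h v = v) :
    Nat.card (ind H U v hU0) = Nat.card H := by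
  obtain ⟨Φ, hi, hr, -⟩ := exists_hom h2 hQ hv hU hU0 hH hHv
  rw [← hr]
  exact (Nat.card_congr (MonoidHom.ofInjective hi).toEquiv).symm

/-- (d) -/
theorem ind_elt (h2 : (2 : F) = 0) (hQ : Nondeg Q) (hv : Q v ≠ 0)
    (hU : U ⊔ Submodule.span F {v} = perp Q (Submodule.span F {v}))
    (hU0 : U ⊓ Submodule.span F {v} = ⊥) (hH : H ≤ E Q) (hHv : ∀ h ∈ H, h v = v) :
    ∀ h ∈ H, ∃ e ∈ ind H U v hU0, orderOf e = orderOf h ∧ ∀ u : U, ∃ c : F, h (u : V) = (e u : V) + c • v := by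
  intro h hh
  obtain ⟨Φ, hi, hr, hΦ⟩ := exists_hom h2 hQ hv hU hU0 hH hHv
  refine ⟨Φ ⟨h, hh⟩, ?_, ?_, hΦ ⟨h, hh⟩⟩
  · rw [← hr]
    exact ⟨_, rfl⟩
  · rw [orderOf_injective Φ hi, Subgroup.orderOf_mk]

/-! ### an invariant plane -/

theorem E_transport {W : Type w} [AddCommGroup W] [Module F W] {Q' : QuadraticForm F W} (e : V ≃ₗ[F] W)
    (he : ∀ x, Q' (e x) = Q x) {g : V ≃ₗ[F] V} (hg : g ∈ E Q) : (e.symm.trans g).trans e ∈ E Q' := by
  have hp : ∀ x y, polar Q' (e x) (e y) = polar Q x y := by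
    intro x y
    rw [QuadraticMap.polar, QuadraticMap.polar, ← map_add, he, he, he]
  let Φ : (V ≃ₗ[F] V) →* (W ≃ₗ[F] W) :=
    { toFun := fun g => (e.symm.trans g).trans e
      map_one' := by
        ext x
        exact e.apply_symm_apply x
      map_mul' := by
        intro a b
        ext x
        show e (a (b (e.symm x))) = e (a (e.symm (e (b (e.symm x)))))
        rw [e.symm_apply_apply] }
  have key : E Q ≤ (E Q').comap Φ := by
    rw [E, Subgroup.closure_le]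
    rintro _ ⟨u, w, hu, hw, rfl⟩
    have hu' : Q' (e u) = 0 := by rw [he, hu]
    have hw' : polar Q' (e u) (e w) = 0 := by rw [hp, hw]
    have h1 : (e.symm.trans (siegel Q u w hu hw)).trans e = siegel Q' (e u) (e w) hu' hw' := by
      ext x
      obtain ⟨x, rfl⟩ := e.surjective x
      rw [siegel_apply, hp, hp, he]
      show e (siegel Q u w hu hw (e.symm (e x))) = _
      rw [e.symm_apply_apply, siegel_apply]
      simp only [map_sub, map_add, map_smul]
    show (e.symm.trans (siegel Q u w hu hw)).trans e ∈ E Q'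
    rw [h1]
    exact siegel_mem_E _ _
  exact key hg

/-- two quadratic forms with the same polar form differ by the square of a linear form, characteristic two, finite field -/
theorem exists_lin [Finite F] (h2 : (2 : F) = 0) {W : Type w} [AddCommGroup W] [Module F W] {R R' : QuadraticForm F W}
    (hp : ∀ a b, polar R' a b = polar R a b) {t : F} (ht : t ≠ 0) :
    ∃ l : W →ₗ[F] F, ∀ x, R' x = R x + l x * l x * t := by
  choose sq hsq using Cfsg.Agent.H177.Rg.exists_sq (F := F) h2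
  have hadd : ∀ a b, R' (a + b) - R (a + b) = (R' a - R a) + (R' b - R b) := by
    intro a b
    rw [Q_add, Q_add, hp]
    ring
  have hsm : ∀ (c : F) a, R' (c • a) - R (c • a) = c ^ 2 * (R' a - R a) := by
    intro c a
    rw [QuadraticMap.map_smul, QuadraticMap.map_smul]
    simp only [smul_eq_mul]
    ring
  refine ⟨{ toFun := fun x => sq ((R' x - R x) * t⁻¹), map_add' := ?_, map_smul' := ?_ }, fun x => ?_⟩
  · intro a b
    refine Cfsg.Agent.H177.Rg.sq_inj h2 ?_
    rw [hsq, hadd, add_sq, hsq, hsq, h2]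
    ring
  · intro c a
    refine Cfsg.Agent.H177.Rg.sq_inj h2 ?_
    rw [hsq, hsm, RingHom.id_apply, smul_eq_mul, mul_pow, hsq]
    ring
  · show R' x = R x + sq ((R' x - R x) * t⁻¹) * sq ((R' x - R x) * t⁻¹) * t
    rw [← pow_two, hsq, mul_assoc, inv_mul_cancel₀ ht, mul_one]
    ring

/-- (e) -/
theorem ind_plane [Finite F] (h2 : (2 : F) = 0) (hQ : Nondeg Q) (hv : Q v ≠ 0)
    (hU : U ⊔ Submodule.span F {v} = perp Q (Submodule.span F {v}))
    (hU0 : U ⊓ Submodule.span F {v} = ⊥) (hn : finrank F U + 2 = finrank F V) (hH : H ≤ E Q)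
    (hHv : ∀ h ∈ H, h v = v) {Q' : QuadraticForm F U} (hQ' : ∀ a b, polar Q' a b = polar (res Q U) a b)
    (hE : E Q' ≤ ind H U v hU0) (hO : ind H U v hU0 ≤ O Q') :
    ∃ P : Submodule F V, finrank F P = 2 ∧ v ∈ P ∧ Nondeg (res Q P) ∧ (∀ h ∈ H, ∀ x ∈ P, h x ∈ P) ∧
      ∀ y ∈ E (res Q (perp Q P)), ∃ a ∈ H, ∀ w : perp Q P, a (w : V) = (y w : V) := by
  obtain ⟨l, hl⟩ := exists_lin (R := res Q U) (R' := Q') h2 hQ' hv
  have hUP := perp_U hU
  obtain ⟨Φ, hi, hr, hΦ⟩ := exists_hom h2 hQ hv hU hU0 hH hHv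
  have hnd := nondeg_cpl hQ hU hU0
  -- the embedding
  let j : U →ₗ[F] V := U.subtype + l.smulRight v
  have hj : ∀ u : U, j u = (u : V) + l u • v := fun u => rfl
  have hQt : ∀ (u : U) (t : F), Q ((u : V) + t • v) = Q u + t * t * Q v := by
    intro u t
    rw [Cfsg.Agent.H588.Rg.Q_add_smul, polar_comm Q (u : V) v, hUP _ u.2, mul_zero, add_zero]
  have hQj : ∀ u : U, Q (j u) = Q' u := by
    intro u
    rw [hj, hQt, hl]
    rfl
  have hpj : ∀ a b : U, polar Q (j a) (j b) = polar Q (a : V) (b : V) := by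
    intro a b
    have h1 : polar Q (j a) (j b) = polar Q' a b := by
      rw [QuadraticMap.polar, QuadraticMap.polar, ← map_add, hQj, hQj, hQj]
    rw [h1, hQ']
    rfl
  have hji : Function.Injective j := by
    rw [injective_iff_map_eq_zero]
    intro u hu
    apply hnd
    intro w
    show polar Q (u : V) (w : V) = 0
    rw [← hpj, hu, polar_zero_left]
  -- invariance
  have hinv : ∀ (h : H) (u : U), (h : V ≃ₗ[F] V) (j u) = j (Φ h u) := by
    intro h u
    obtain ⟨c, hc⟩ := hΦ h u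
    have e1 : (h : V ≃ₗ[F] V) (j u) = (Φ h u : V) + (c + l u) • v := by
      rw [hj, map_add, map_smul, hHv _ h.2, hc, add_smul, add_assoc]
    have e2 : Q ((h : V ≃ₗ[F] V) (j u)) = Q' u := by
      rw [mem_O.1 (E_le_O (hH h.2)), hQj]
    have e3 : Q' (Φ h u) = Q' u := mem_O.1 (hO (by rw [← hr]; exact ⟨h, rfl⟩)) u
    rw [← e3, ← hQj, e1, hj, hQt, hQt] at e2
    have e4 : (c + l u) * (c + l u) * Q v = l (Φ h u) * l (Φ h u) * Q v := add_left_cancel e2
    have e5 := mul_right_cancel₀ hv e4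
    rw [← pow_two, ← pow_two] at e5
    rw [e1, hj, Cfsg.Agent.H177.Rg.sq_inj h2 e5]
  have hvj : ∀ u, polar Q v (j u) = 0 := by
    intro u
    rw [hj, polar_add_right, polar_smul_right, hUP _ u.2, polar_vv h2, smul_zero, add_zero]
  set U' : Submodule F V := LinearMap.range j with hU'
  have hfr : finrank F U' = finrank F U := LinearMap.finrank_range_of_inj hji
  have hU'nd : Nondeg (res Q U') := by
    rw [nondeg_res_iff]
    rintro _ ⟨u, rfl⟩ h
    have h1 : u = 0 := by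
      apply hnd
      intro w
      show polar Q (u : V) (w : V) = 0
      rw [← hpj]
      exact h _ ⟨w, rfl⟩
    rw [h1, map_zero]
  have hPP : perp Q (perp Q U') = U' := perp_perp hQ U'
  refine ⟨perp Q U', ?_, ?_, nondeg_perp hQ hU'nd, ?_, ?_⟩
  · have := finrank_add_perp hQ U'
    omega
  · rintro _ ⟨u, rfl⟩
    rw [polar_comm]
    exact hvj u
  · rintro h hh x hx _ ⟨u, rfl⟩
    have e1 := hinv ⟨h, hh⟩ ((Φ ⟨h, hh⟩)⁻¹ u)
    have e2 : Φ ⟨h, hh⟩ ((Φ ⟨h, hh⟩)⁻¹ u) = u := (Φ ⟨h, hh⟩).apply_symm_apply u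
    rw [e2] at e1
    have e3 : h (j ((Φ ⟨h, hh⟩)⁻¹ u)) = j u := e1
    rw [← e3, polar_map (E_le_O (hH hh))]
    exact hx _ ⟨_, rfl⟩
  · intro y hy
    have hrange : LinearMap.range j = perp Q (perp Q U') := hPP.symm
    let e : U ≃ₗ[F] ↥(perp Q (perp Q U')) := (LinearEquiv.ofInjective j hji).trans (LinearEquiv.ofEq _ _ hrange)
    have he : ∀ u, ((e u : ↥(perp Q (perp Q U'))) : V) = j u := fun u => rfl
    have hy' := E_transport (Q := res Q (perp Q (perp Q U'))) (Q' := Q') e.symm (fun x => by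
      obtain ⟨u, rfl⟩ := e.surjective x
      rw [e.symm_apply_apply, ← hQj, ← he]
      rfl) hy
    obtain ⟨a, ha⟩ : ∃ a : H, Φ a = (e.symm.symm.trans y).trans e.symm := by
      have h1 := hE hy'
      rw [← hr] at h1
      exact h1
    refine ⟨a, a.2, fun w => ?_⟩
    obtain ⟨u, rfl⟩ := e.surjective w
    rw [he, hinv, ha]
    show j (e.symm (y (e u))) = _
    rw [← he, e.apply_symm_apply]

end Cfsg.Agent.H195.Rg
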